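import Mathlib
import Cfsg.Agent.Lib.Frobenius.UniqueSubgroup
import Cfsg.Agent.Lib.PowerGraph

/-!
A group acting on an abelian group such that all nontrivial elements fix only one fixed subgroup cannot have
two primes for which the abelian group has moved elements.
-/

set_option autoImplicit false
set_option linter.unusedSectionVars false
set_option linter.unusedVariables false
set_option linter.style.haveILetI false

namespace CfsgLib.TwoSizeNormal

open Subgroup

universe u v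
variable {Y : Type u} [Group Y] [Finite Y] {A : Type v} [CommGroup A] [Finite A]

/-- An element of prime power order outside `Z`. -/
def Moves (q : ℕ) (Z : Subgroup A) : Prop := ∃ a : A, a ∉ Z ∧ ∃ n : ℕ, a ^ q ^ n = 1

variable {φ : Y →* MulAut A} {Z : Subgroup A}

theorem pow_fixed_coset (hZ : ∀ y : Y, ∀ z ∈ Z, φ y z = z) {k : Y} {a z : A} (hz : z ∈ Z) (h : φ k a = a * z) (n : ℕ) :
    φ (k ^ n) a = a * z ^ n := by
  induction n with
  | zero => simp
  | succ n ih => rw [pow_succ', map_mul, MulAut.mul_apply, ih, map_mul, h, hZ k _ (Z.pow_mem hz n), pow_succ', mul_assoc]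

theorem eq_one_of_coprime_pow {q : ℕ} (hq : q.Prime) {n m : ℕ} (hm : ¬ q ∣ m) {z : A} (h1 : z ^ q ^ n = 1)
    (h2 : z ^ m = 1) : z = 1 :=
  orderOf_eq_one_iff.mp (Nat.eq_one_of_dvd_coprimes (Nat.Coprime.pow_left n (hq.coprime_iff_not_dvd.mpr hm))
    (orderOf_dvd_of_pow_eq_one h1) (orderOf_dvd_of_pow_eq_one h2))

variable (hZ : ∀ y : Y, ∀ z ∈ Z, φ y z = z) (hfree : ∀ y : Y, y ≠ 1 → ∀ a : A, φ y a = a → a ∈ Z)

include hZ hfree in
/-- A nontrivial `q`-element normalizes no element of prime order `s ≠ q`. -/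
theorem no_normalize {q s : ℕ} (hq : q.Prime) (hs : s.Prime) (hne : s ≠ q) (hA : Moves q Z) {k u : Y} (hk1 : k ≠ 1)
    (hk : k ^ s = 1) (hu1 : u ≠ 1) {e : ℕ} (hu : u ^ q ^ e = 1) (hn : u * k * u⁻¹ ∈ zpowers k) : False := by
  haveI := Fact.mk hq
  have hqs : ¬ q ∣ s := fun h => hne ((Nat.prime_dvd_prime_iff_eq hq hs).mp h).symm
  obtain ⟨a0, ha0, n0, hn0⟩ := hA
  let Aq : Subgroup A :=
    { carrier := {a | ∃ n : ℕ, a ^ q ^ n = 1}
      one_mem' := ⟨0, one_pow _⟩
      mul_mem' := fun {a b} ⟨n, hn⟩ ⟨m, hm⟩ => ⟨n + m, by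
        rw [mul_pow, pow_add, pow_mul, hn, one_pow, one_mul, mul_comm (q ^ n) (q ^ m), pow_mul, hm, one_pow]⟩
      inv_mem' := fun {a} ⟨n, hn⟩ => ⟨n, by rw [inv_pow, hn, inv_one]⟩ }
  let f : A →* A := (MonoidHom.id A) / (φ k).toMonoidHom
  have hf : ∀ a, f a = a / φ k a := fun a => rfl
  set T : Subgroup A := Aq.map f with hT
  have hTq : T ≤ Aq := by
    rintro _ ⟨a, ⟨n, hn⟩, rfl⟩
    exact ⟨n, by rw [← map_pow, hn, map_one]⟩
  have hTZ : ∀ t ∈ T, t ∈ Z → t = 1 := by
    intro t ht htZ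
    obtain ⟨m, hm⟩ := hTq ht
    obtain ⟨a, -, rfl⟩ := ht
    have h1 : φ k a = a * (f a)⁻¹ := by rw [hf]; simp
    have h2 := pow_fixed_coset hZ (Z.inv_mem htZ) h1 s
    rw [hk, map_one, MulAut.one_apply, left_eq_mul, inv_pow, inv_eq_one] at h2
    exact eq_one_of_coprime_pow hq hqs hm h2
  have hTpow : ∀ (j : ℕ), ∀ b ∈ Aq, b / φ (k ^ j) b ∈ T := by
    intro j
    induction j with
    | zero => intro b _; simp
    | succ j ih =>
      intro b hb
      have hb' : φ k b ∈ Aq := by obtain ⟨n, hn⟩ := hb; exact ⟨n, by rw [← map_pow, hn, map_one]⟩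
      have e : φ (k ^ (j + 1)) b = φ (k ^ j) (φ k b) := by rw [pow_succ, map_mul, MulAut.mul_apply]
      rw [e, show b / φ (k ^ j) (φ k b) = (b / φ k b) * (φ k b / φ (k ^ j) (φ k b)) by rw [div_mul_div_cancel]]
      exact T.mul_mem ⟨b, hb, hf b⟩ (ih _ hb')
  obtain ⟨j, hj⟩ := mem_powers_iff_mem_zpowers.mpr hn
  change k ^ j = u * k * u⁻¹ at hj
  have hTu : ∀ t ∈ T, φ u t ∈ T := by
    rintro _ ⟨a, ⟨n, hn⟩, rfl⟩
    rw [hf, map_div, ← MulAut.mul_apply, ← map_mul, show u * k = u * k * u⁻¹ * u by group, map_mul, MulAut.mul_apply, ← hj]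
    exact hTpow j _ ⟨n, by rw [← map_pow, hn, map_one]⟩
  let σ : Equiv.Perm T := Equiv.ofBijective (fun t => ⟨φ u t, hTu t t.2⟩)
    (Finite.injective_iff_bijective.mp fun a b e => Subtype.ext ((φ u).injective (congrArg Subtype.val e)))
  have hσ : ∀ (i : ℕ) (t : T), (((σ ^ i) t : T) : A) = φ (u ^ i) t := by
    intro i
    induction i with
    | zero => intro t; simp
    | succ i ih =>
      intro t
      rw [pow_succ', Equiv.Perm.mul_apply]
      show φ u (((σ ^ i) t : T) : A) = _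
      rw [ih, pow_succ', map_mul, MulAut.mul_apply]
  have hσ1 : σ ^ q ^ e = 1 := Equiv.ext fun t => Subtype.ext (by rw [hσ, hu, map_one]; rfl)
  haveI := Fintype.ofFinite T
  have hTne : f a0 ≠ 1 := fun h => ha0 (hfree k hk1 a0 (by rw [hf, div_eq_one] at h; exact h.symm))
  have hcard : q ∣ Fintype.card T := by
    have hTp : IsPGroup q T := fun t => by
      obtain ⟨n, hn⟩ := hTq t.2
      exact ⟨n, Subtype.ext hn⟩
    haveI : Nontrivial T := (nontrivial_iff_ne_bot T).mpr fun h =>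
      hTne (mem_bot.mp (h ▸ ⟨a0, ⟨n0, hn0⟩, rfl⟩))
    obtain ⟨n, hn0', hn⟩ := hTp.nontrivial_iff_card.mp inferInstance
    rw [← Nat.card_eq_fintype_card, hn]
    exact dvd_pow_self q hn0'.ne'
  obtain ⟨t, ht, ht1⟩ := Equiv.Perm.exists_fixed_point_of_prime' hcard hσ1 (a := (1 : T))
    (Subtype.ext (map_one (φ u)))
  exact ht1 (Subtype.ext (hTZ _ t.2 (hfree u hu1 _ (congrArg Subtype.val ht))))

include hZ hfree in
theorem involution_mul {t : Y} (ht1 : t ≠ 1) (ht : t * t = 1) (a : A) : φ t a * a ∈ Z := by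
  refine hfree t ht1 _ ?_
  rw [map_mul, ← MulAut.mul_apply, ← map_mul, ht, map_one, MulAut.one_apply, mul_comm]

include hZ hfree in
theorem involution_unique {q r : ℕ} (hq : q.Prime) (hr : r.Prime) (hne : q ≠ r) (hAq : Moves q Z) (hAr : Moves r Z)
    {t t' : Y} (ht1 : t ≠ 1) (ht : t * t = 1) (ht1' : t' ≠ 1) (ht' : t' * t' = 1) : t = t' := by
  have key : ∀ {s : ℕ}, s.Prime → Moves s Z → ∃ n : ℕ, (t * t') ^ s ^ n = 1 := by
    intro s hs ⟨a, ha, m, hm⟩
    haveI := Fact.mk hs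
    set w := t * t' with hw
    have hz : ∀ b : A, φ w b / b ∈ Z := fun b => by
      have h1 := involution_mul hZ hfree ht1' ht' b
      have h2 := involution_mul hZ hfree ht1 ht b
      have e : φ w b = (φ t b)⁻¹ * (φ t' b * b) := by
        rw [← hZ t _ h1, map_mul (φ t), ← MulAut.mul_apply, ← map_mul φ, ← hw, mul_comm (φ w b), inv_mul_cancel_left]
      rw [e, show (φ t b)⁻¹ * (φ t' b * b) / b = (φ t' b * b) * (φ t b * b)⁻¹ by
        rw [div_eq_mul_inv, mul_inv, mul_comm (φ t' b * b)]; ac_rfl]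
      exact Z.mul_mem h1 (Z.inv_mem h2)
    refine ⟨(orderOf w).factorization s, by_contra fun h1 => ha (hfree _ h1 a ?_)⟩
    set z := φ w a / a with hzd
    have e : φ w a = a * z := by rw [hzd]; simp
    have h2 : z ^ s ^ m = 1 := by rw [hzd, div_pow, ← map_pow, hm, map_one, div_one]
    have h3 : z ^ orderOf w = 1 := by
      have := pow_fixed_coset hZ (hz a) e (orderOf w)
      rwa [pow_orderOf_eq_one, map_one, MulAut.one_apply, left_eq_mul] at this
    rw [← Nat.ordProj_mul_ordCompl_eq_self (orderOf w) s, pow_mul] at h3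
    rw [pow_fixed_coset hZ (hz a) e, eq_one_of_coprime_pow hs (Nat.not_dvd_ordCompl hs (orderOf_pos w).ne')
      (n := m) (by rw [← pow_mul, mul_comm, pow_mul, h2, one_pow]) h3, mul_one]
  obtain ⟨n, hn⟩ := key hq hAq
  obtain ⟨n', hn'⟩ := key hr hAr
  have h1 : t * t' = 1 := orderOf_eq_one_iff.mp (Nat.eq_one_of_dvd_coprimes
    (Nat.Coprime.pow n n' ((Nat.coprime_primes hq hr).mpr hne)) (orderOf_dvd_of_pow_eq_one hn)
    (orderOf_dvd_of_pow_eq_one hn'))
  exact mul_right_cancel (h1.trans ht'.symm)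

include hZ hfree in
/-- Elementary abelian subgroups of rank two are excluded. -/
theorem mem_zpowers_of_commute {q s : ℕ} (hq : q.Prime) (hs : s.Prime) (hne : s ≠ q) (hA : Moves q Z) {k k' : Y}
    (hk1 : k ≠ 1) (hk : k ^ s = 1) (hk' : k' ^ s = 1) (hc : Commute k k') : k' ∈ zpowers k := by
  classical
  by_contra hnot
  obtain ⟨a, ha, n, hn⟩ := hA
  -- norms of nontrivial elements of order `s` lie in `Z`
  have hnorm : ∀ y : Y, y ≠ 1 → y ^ s = 1 → ∀ b : A, ∏ i ∈ Finset.range s, φ (y ^ i) b ∈ Z := by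
    intro y hy1 hy b
    refine hfree y hy1 _ ?_
    rw [map_prod]
    have h1 : ∀ i, φ y (φ (y ^ i) b) = φ (y ^ (i + 1)) b := fun i => by rw [pow_succ', map_mul, MulAut.mul_apply]
    simp only [h1]
    have h2 := Finset.prod_range_succ' (fun i => φ (y ^ i) b) s
    rw [Finset.prod_range_succ, hy, pow_zero] at h2
    exact mul_right_cancel h2.symm
  have h1 : ∏ j ∈ Finset.range s, ∏ i ∈ Finset.range s, φ ((k ^ j * k') ^ i) a ∈ Z := by
    refine Subgroup.prod_mem Z fun j _ => hnorm _ (fun h => hnot ?_) ?_ a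
    · rw [eq_inv_of_mul_eq_one_right h]; exact inv_mem (pow_mem (mem_zpowers k) j)
    · rw [(hc.pow_left j).mul_pow, ← pow_mul, mul_comm, pow_mul, hk, one_pow, hk', one_mul]
  rw [Finset.prod_comm, ← Finset.mul_prod_erase _ _ (Finset.mem_range.mpr hs.pos)] at h1
  have h2 : ∏ i ∈ (Finset.range s).erase 0, ∏ j ∈ Finset.range s, φ ((k ^ j * k') ^ i) a ∈ Z := by
    refine Subgroup.prod_mem Z fun i hi => ?_
    obtain ⟨hi0, his⟩ := Finset.mem_erase.mp hi
    rw [Finset.mem_range] at his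
    have e : ∀ j, φ ((k ^ j * k') ^ i) a = φ ((k ^ i) ^ j) (φ (k' ^ i) a) := fun j => by
      rw [(hc.pow_left j).mul_pow, map_mul, MulAut.mul_apply, ← pow_mul, ← pow_mul, mul_comm j i]
    simp only [e]
    refine hnorm _ (fun h => ?_) (by rw [← pow_mul, mul_comm, pow_mul, hk, one_pow]) _
    haveI := Fact.mk hs
    have h3 := orderOf_dvd_of_pow_eq_one h
    rw [orderOf_eq_prime hk hk1] at h3
    exact absurd (Nat.le_of_dvd (Nat.pos_of_ne_zero hi0) h3) (not_le.mpr his)
  have h3 : a ^ s ∈ Z := by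
    have h4 := (Subgroup.mul_mem_cancel_right Z h2).mp h1
    simpa using h4
  refine ha ?_
  obtain ⟨m, hm⟩ := exists_pow_eq_self_of_coprime (x := a) (n := s) (Nat.Coprime.coprime_dvd_right
    (orderOf_dvd_of_pow_eq_one hn) (Nat.Coprime.pow_right n ((Nat.coprime_primes hs hq).mpr hne)))
  rw [← hm]
  exact Z.pow_mem h3 m

include hZ hfree in
/-- The conclusion. -/
theorem no_two_primes {q r : ℕ} (hq : q.Prime) (hr : r.Prime) (hne : q ≠ r) (hAq : Moves q Z) (hAr : Moves r Z)
    (hqY : q ∣ Nat.card Y) (hrY : r ∣ Nat.card Y) : False := by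
  haveI := Fact.mk hq
  haveI := Fact.mk hr
  obtain ⟨uq, huq⟩ := exists_prime_orderOf_dvd_card' q hqY
  obtain ⟨ur, hur⟩ := exists_prime_orderOf_dvd_card' r hrY
  have hone : ∀ {s : ℕ}, s.Prime → ∀ {u : Y}, orderOf u = s → u ≠ 1 := fun hs u hu h => by
    rw [h, orderOf_one] at hu; exact hs.ne_one hu.symm
  -- a normalized element of prime order gives a contradiction
  have fin : ∀ {s : ℕ}, s.Prime → ∀ k : Y, k ≠ 1 → k ^ s = 1 → (∀ g : Y, g * k * g⁻¹ ∈ zpowers k) → False := by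
    intro s hs k hk1 hk hall
    rcases eq_or_ne s q with h | h
    · exact no_normalize hZ hfree hr hs (h ▸ hne) hAr hk1 hk (hone hr hur) (e := 1)
        (by rw [pow_one, ← hur]; exact pow_orderOf_eq_one ur) (hall ur)
    · exact no_normalize hZ hfree hq hs h hAq hk1 hk (hone hq huq) (e := 1)
        (by rw [pow_one, ← huq]; exact pow_orderOf_eq_one uq) (hall uq)
  by_cases h2 : 2 ∣ Nat.card Y
  · haveI := Fact.mk Nat.prime_two
    obtain ⟨t, ht⟩ := exists_prime_orderOf_dvd_card' 2 h2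
    have ht1 := hone Nat.prime_two ht
    have htt : t * t = 1 := by rw [← pow_two, ← ht]; exact pow_orderOf_eq_one t
    refine fin Nat.prime_two t ht1 (by rw [pow_two, htt]) fun g => ?_
    rw [involution_unique hZ hfree hq hr hne hAq hAr (t := g * t * g⁻¹) (fun h => ht1 ((conj_eq_one_iff).mp h))
      (by rw [show g * t * g⁻¹ * (g * t * g⁻¹) = g * (t * t) * g⁻¹ by group, htt]; group) ht1 htt]
    exact mem_zpowers t
  -- odd order
  haveI : IsZGroup Y := ⟨fun s hs P => by
    haveI := Fact.mk hs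
    by_cases hP : (P : Subgroup Y) = ⊥
    · haveI : Subsingleton (P : Subgroup Y) := by rw [hP]; infer_instance
      exact isCyclic_of_subsingleton
    have hsY : s ∣ Nat.card Y := by
      obtain ⟨n, hn⟩ := P.isPGroup'.exists_card_eq
      refine dvd_trans ?_ (card_subgroup_dvd_card (P : Subgroup Y))
      have : n ≠ 0 := fun h => hP (eq_bot_of_card_eq _ (by rw [hn, h, pow_zero]))
      rw [hn]; exact dvd_pow_self s this
    have hs2 : s ≠ 2 := fun h => h2 (h ▸ hsY)
    have key : ∀ k k' : Y, k ≠ 1 → k ^ s = 1 → k' ^ s = 1 → Commute k k' → k' ∈ zpowers k := fun k k' h1 h3 h4 h5 => by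
      rcases eq_or_ne s q with h | h
      · exact mem_zpowers_of_commute hZ hfree hr hs (h ▸ hne) hAr h1 h3 h4 h5
      · exact mem_zpowers_of_commute hZ hfree hq hs h hAq h1 h3 h4 h5
    haveI : Nontrivial (P : Subgroup Y) := (nontrivial_iff_ne_bot _).mpr hP
    haveI := P.isPGroup'.center_nontrivial
    obtain ⟨n, hn0, hn⟩ := (P.isPGroup'.to_subgroup (Subgroup.center (P : Subgroup Y))).nontrivial_iff_card.mp inferInstance
    obtain ⟨⟨z, hzc⟩, hz⟩ := exists_prime_orderOf_dvd_card' (G := Subgroup.center (P : Subgroup Y)) s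
      (hn ▸ dvd_pow_self s hn0.ne')
    have hz' : orderOf z = s := (Subgroup.orderOf_coe (⟨z, hzc⟩ : Subgroup.center (P : Subgroup Y))).trans hz
    refine CfsgLib.Frob.isCyclic_of_uniq_odd hs2 P.isPGroup' fun H K hH hK => ?_
    have hsub : ∀ L : Subgroup (P : Subgroup Y), Nat.card L = s → L = zpowers z := fun L hL => by
      refine eq_of_le_of_card_ge (fun w hw => ?_) (by rw [Nat.card_zpowers, hz', hL])
      have hw1 : w ^ s = 1 := by
        have := pow_card_eq_one' (x := (⟨w, hw⟩ : L))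
        rw [hL] at this
        exact congrArg Subtype.val this
      obtain ⟨i, hi⟩ := key (z : Y) (w : Y) (hone hs ((Subgroup.orderOf_coe z).trans hz'))
        (by rw [← SubmonoidClass.coe_pow, orderOf_dvd_iff_pow_eq_one.mp hz'.dvd, OneMemClass.coe_one])
        (by rw [← SubmonoidClass.coe_pow, hw1, OneMemClass.coe_one])
        (congrArg Subtype.val (mem_center_iff.mp hzc w)).symm
      exact ⟨i, Subtype.ext (by simpa using hi)⟩
    rw [hsub H hH, hsub K hK]⟩
  -- a normal subgroup of prime order in the cyclic derived group, or a central one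
  obtain ⟨k, hk1, s, hs, hk, hall⟩ : ∃ k : Y, k ≠ 1 ∧ ∃ s : ℕ, s.Prime ∧ k ^ s = 1 ∧ ∀ g : Y, g * k * g⁻¹ ∈ zpowers k := by
    by_cases hc : _root_.commutator Y = ⊥
    · refine ⟨uq, hone hq huq, q, hq, by rw [← huq]; exact pow_orderOf_eq_one uq, fun g => ?_⟩
      have h1 : ⁅(⊤ : Subgroup Y), (⊤ : Subgroup Y)⁆ = (⊥ : Subgroup Y) := by rw [← commutator_def]; exact hc
      have h2 := commutator_le.mp h1.le g (mem_top g) uq (mem_top uq)
      rw [mem_bot, commutatorElement_eq_one_iff_mul_comm] at h2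
      rw [h2, mul_inv_cancel_right]
      exact mem_zpowers uq
    · have hc1 : Nat.card (_root_.commutator Y) ≠ 1 := fun h => hc (eq_bot_of_card_eq _ h)
      obtain ⟨s, hs, hsd⟩ := Nat.exists_prime_and_dvd hc1
      haveI := Fact.mk hs
      obtain ⟨⟨k, hkc⟩, hk⟩ := exists_prime_orderOf_dvd_card' s hsd
      have hk' : orderOf k = s := by rw [← hk]; exact Subgroup.orderOf_coe (⟨k, hkc⟩ : _root_.commutator Y)
      refine ⟨k, hone hs hk', s, hs, hk' ▸ pow_orderOf_eq_one k, fun g => ?_⟩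
      haveI := IsZGroup.isCyclic_commutator (G := Y)
      have hgk : g * k * g⁻¹ ∈ _root_.commutator Y := (inferInstance : (_root_.commutator Y).Normal).conj_mem k hkc g
      have h1 : (⟨g * k * g⁻¹, hgk⟩ : _root_.commutator Y) ∈ zpowers (⟨k, hkc⟩ : _root_.commutator Y) := by
        have ho : orderOf (⟨g * k * g⁻¹, hgk⟩ : _root_.commutator Y) = s := by
          rw [← Subgroup.orderOf_coe]; show orderOf (g * k * g⁻¹) = s
          rw [← MulAut.conj_apply, MulEquiv.orderOf_eq, hk']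
        have h3 : zpowers (⟨g * k * g⁻¹, hgk⟩ : _root_.commutator Y) = zpowers (⟨k, hkc⟩ : _root_.commutator Y) :=
          CfsgLib.PowerGraph.subgroup_eq_of_card (by rw [Nat.card_zpowers, Nat.card_zpowers, ho, hk])
        exact h3 ▸ mem_zpowers _
      obtain ⟨i, hi⟩ := h1
      exact ⟨i, by simpa using congrArg Subtype.val hi⟩
  exact fin hs k hk1 hk hall

end CfsgLib.TwoSizeNormal
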