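import Cfsg.Agent.Lib.TwoSizeNormal.Action
import Cfsg.Agent.Lib.SylowExtra
import Cfsg.Agent.Lib.JordanCover

/-!
A normal subgroup with two conjugacy class sizes containing a noncentral Sylow subgroup is nilpotent.
-/

set_option autoImplicit false
set_option linter.unusedSectionVars false
set_option linter.unusedVariables false
set_option linter.style.haveILetI false
set_option maxHeartbeats 800000

namespace CfsgLib.TwoSizeNormal

open Subgroup

universe u
variable {G : Type u} [Group G] [Finite G]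

/-- Noncentral elements of `N` have centralizer index `m`. -/
def TwoSize (N : Subgroup G) (m : ℕ) : Prop :=
  ∀ x ∈ N, x ∉ Subgroup.center G → (centralizer ({x} : Set G)).index = m

theorem cz_mem {g x : G} : g ∈ centralizer ({x} : Set G) ↔ g * x = x * g := mem_centralizer_singleton_iff

theorem cz_eq {N : Subgroup G} {m : ℕ} (h : TwoSize N m) {a b : G} (ha : a ∈ N) (ha' : a ∉ Subgroup.center G)
    (hb : b ∈ N) (hb' : b ∉ Subgroup.center G) (hle : centralizer ({a} : Set G) ≤ centralizer ({b} : Set G)) :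
    centralizer ({a} : Set G) = centralizer ({b} : Set G) := by
  refine eq_of_le_of_card_ge hle (le_of_eq (Nat.eq_of_mul_eq_mul_right
    (Nat.pos_of_ne_zero (index_ne_zero_of_finite (H := centralizer ({b} : Set G)))) ?_))
  conv_rhs => rw [h b hb hb', ← h a ha ha']
  rw [card_mul_index, card_mul_index]

theorem cz_mul_eq {N : Subgroup G} {m : ℕ} (h : TwoSize N m) {a b : G} (ha : a ∈ N) (ha' : a ∉ Subgroup.center G)
    (hb : b ∈ N) (hb' : b ∉ Subgroup.center G) (hc : Commute a b) (hcop : (orderOf a).Coprime (orderOf b)) :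
    centralizer ({a} : Set G) = centralizer ({b} : Set G) := by
  have key : ∀ {a b : G}, Commute a b → (orderOf a).Coprime (orderOf b) →
      ∃ n : ℕ, (a * b) ^ n = a := fun {a b} hc hcop => by
    obtain ⟨j, hj⟩ := exists_pow_eq_self_of_coprime (x := a) (n := orderOf b) hcop.symm
    refine ⟨orderOf b * j, ?_⟩
    rw [pow_mul, hc.mul_pow, pow_orderOf_eq_one, mul_one]
    exact hj
  obtain ⟨n, hn⟩ := key hc hcop
  obtain ⟨n', hn'⟩ := key hc.symm hcop.symm
  rw [← hc.eq] at hn'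
  have hab : a * b ∉ Subgroup.center G := fun h' => ha' (hn ▸ Subgroup.pow_mem _ h' n)
  have hle : ∀ {c : G} (j : ℕ), (a * b) ^ j = c → centralizer ({a * b} : Set G) ≤ centralizer ({c} : Set G) :=
    fun j hj g hg => by
      rw [cz_mem] at hg ⊢
      exact hj ▸ (Commute.pow_right hg j)
  rw [← cz_eq h (N.mul_mem ha hb) hab ha ha' (hle n hn), cz_eq h (N.mul_mem ha hb) hab hb hb' (hle n' hn')]

theorem exists_primary {g : G} (hg : g ∉ Subgroup.center G) :
    ∃ q : ℕ, q.Prime ∧ q ∣ orderOf g ∧ g ^ ordCompl[q] (orderOf g) ∉ Subgroup.center G := by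
  have hne : orderOf (QuotientGroup.mk' (Subgroup.center G) g) ≠ 1 := fun h =>
    hg ((QuotientGroup.eq_one_iff g).mp (orderOf_eq_one_iff.mp h))
  obtain ⟨q, hq, hqd⟩ := Nat.exists_prime_and_dvd hne
  refine ⟨q, hq, hqd.trans (orderOf_map_dvd _ g), fun h => ?_⟩
  have h1 : orderOf (QuotientGroup.mk' (Subgroup.center G) g) ∣ ordCompl[q] (orderOf g) :=
    orderOf_dvd_of_pow_eq_one (by rw [← map_pow]; exact (QuotientGroup.eq_one_iff _).mpr h)
  exact Nat.not_dvd_ordCompl hq (orderOf_pos g).ne' (hqd.trans h1)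

theorem pow_ordCompl_pow (g : G) (q : ℕ) :
    (g ^ ordCompl[q] (orderOf g)) ^ q ^ (orderOf g).factorization q = 1 := by
  rw [← pow_mul, mul_comm, Nat.ordProj_mul_ordCompl_eq_self, pow_orderOf_eq_one]

theorem isPGroup_zpowers {s : ℕ} [Fact s.Prime] {u : G} {e : ℕ} (hu : u ^ s ^ e = 1) : IsPGroup s (zpowers u) := by
  obtain ⟨k, -, hk⟩ := (Nat.dvd_prime_pow Fact.out).mp (orderOf_dvd_of_pow_eq_one hu)
  exact IsPGroup.of_card (n := k) (by rw [Nat.card_zpowers, hk])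

/-- `C(a) ≤ C(v)` for all `v ∈ N ∩ C(y)`. -/
theorem cz_le_cz {N : Subgroup G} {m : ℕ} (h : TwoSize N m) {r : ℕ} [hr : Fact r.Prime] {x y : G}
    (hxN : x ∈ N) (hxc : x ∉ Subgroup.center G) (hxr : ∃ e : ℕ, x ^ r ^ e = 1)
    (hyN : y ∈ N) (hyc : y ∉ Subgroup.center G) (hyr : (orderOf y).Coprime r)
    (hxy : Commute x y) {v : G} (hv : v ∈ N ⊓ centralizer ({y} : Set G)) :
    centralizer ({y} : Set G) ≤ centralizer ({v} : Set G) := by
  have hcopr : ∀ {a : G}, (∃ e : ℕ, a ^ r ^ e = 1) → ∀ {b : G}, (orderOf b).Coprime r →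
      (orderOf a).Coprime (orderOf b) := fun ⟨e, he⟩ b hb =>
    ((hb.pow_right e).symm).coprime_dvd_left (orderOf_dvd_of_pow_eq_one he)
  have hxy' : centralizer ({x} : Set G) = centralizer ({y} : Set G) :=
    cz_mul_eq h hxN hxc hyN hyc hxy (hcopr hxr hyr)
  set a := ordProj[r] (orderOf v) with ha
  set b := ordCompl[r] (orderOf v) with hb
  have h1 : centralizer ({y} : Set G) ≤ centralizer ({v ^ b} : Set G) := by
    by_cases hc : v ^ b ∈ Subgroup.center G
    · exact fun g _ => cz_mem.mpr (mem_center_iff.mp hc g)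
    · refine le_of_eq (cz_mul_eq h (N.pow_mem hv.1 b) hc hyN hyc ?_ (hcopr ⟨_, pow_ordCompl_pow v r⟩ hyr)).symm
      exact Commute.pow_left (cz_mem.mp hv.2) b
  have h2 : centralizer ({y} : Set G) ≤ centralizer ({v ^ a} : Set G) := by
    by_cases hc : v ^ a ∈ Subgroup.center G
    · exact fun g _ => cz_mem.mpr (mem_center_iff.mp hc g)
    · have hcx : Commute x (v ^ a) := by
        have : v ∈ centralizer ({x} : Set G) := hxy' ▸ hv.2
        exact (Commute.pow_left (cz_mem.mp this) a).symm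
      rw [← hxy']
      refine le_of_eq (cz_mul_eq h hxN hxc (N.pow_mem hv.1 a) hc hcx (hcopr hxr ?_))
      exact Nat.Coprime.coprime_dvd_left (orderOf_dvd_of_pow_eq_one (by
        rw [← pow_mul, ha, Nat.ordProj_mul_ordCompl_eq_self, pow_orderOf_eq_one]))
        (Nat.coprime_ordCompl hr.out (orderOf_pos v).ne').symm
  intro g hg
  have hga : Commute g (v ^ a) := cz_mem.mp (h2 hg)
  have hgb : Commute g (v ^ b) := cz_mem.mp (h1 hg)
  have hcop : Nat.Coprime a b := Nat.Coprime.pow_left _ (Nat.coprime_ordCompl hr.out (orderOf_pos v).ne')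
  have e : v = (v ^ a) ^ Nat.gcdA a b * (v ^ b) ^ Nat.gcdB a b := by
    rw [← zpow_natCast v a, ← zpow_natCast v b, ← zpow_mul, ← zpow_mul, ← zpow_add, ← Nat.gcd_eq_gcd_ab,
      hcop.gcd_eq_one, Nat.cast_one, zpow_one]
  rw [cz_mem, e]
  exact (hga.zpow_right _).mul_right (hgb.zpow_right _)

/-- Facts about the Sylow `s`-subgroup of `C(y)` around a noncentral `s`-element of `N ∩ C(y)`. -/
theorem exists_normalizing {N : Subgroup G} [hN : N.Normal] {m : ℕ} (h : TwoSize N m) {y : G} (hyN : y ∈ N)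
    (hyc : y ∉ Subgroup.center G)
    (hA : ∀ v ∈ N ⊓ centralizer ({y} : Set G), centralizer ({y} : Set G) ≤ centralizer ({v} : Set G))
    {s : ℕ} [hs : Fact s.Prime] {v : G} (hv : v ∈ N ⊓ centralizer ({y} : Set G)) (hvc : v ∉ Subgroup.center G)
    {e : ℕ} (hve : v ^ s ^ e = 1) :
    N ≤ centralizer ({y} : Set G) ∨ ∃ u : G, (∃ e : ℕ, u ^ s ^ e = 1) ∧ u ∉ centralizer ({y} : Set G) ∧
      u ∈ normalizer ((N ⊓ centralizer ({y} : Set G) : Subgroup G) : Set G) := by
  set C := centralizer ({y} : Set G) with hC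
  set A := N ⊓ C with hAdef
  have hnorm : ∀ u : G, u * v * u⁻¹ ∈ A → u ∈ normalizer (A : Set G) := fun u hu => by
    rw [mem_normalizer_iff_map_conj_eq]
    refine eq_of_le_of_card_ge ?_ (card_map_of_injective (MulAut.conj u).injective).ge
    rintro _ ⟨a, ha, rfl⟩
    have huc : u * v * u⁻¹ ∉ Subgroup.center G := fun hc => hvc (by
      have := (inferInstance : (Subgroup.center G).Normal).conj_mem _ hc u⁻¹
      simpa [mul_assoc] using this)
    refine ⟨hN.conj_mem a ha.1 u, ?_⟩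
    show u * a * u⁻¹ ∈ C
    rw [hC, cz_eq h hyN hyc hu.1 huc (hA _ hu), cz_mem]
    have h1 : a * v = v * a := cz_mem.mp (hA v hv ha.2)
    calc u * a * u⁻¹ * (u * v * u⁻¹) = u * (a * v) * u⁻¹ := by group
      _ = u * (v * a) * u⁻¹ := by rw [h1]
      _ = _ := by group
  let P : Sylow s C := default
  obtain ⟨S, hS⟩ := (P.isPGroup'.map C.subtype).exists_le_sylow
  set P0 := (P : Subgroup C).map C.subtype with hP0
  have hmax : (S : Subgroup G) ⊓ C = P0 := by
    refine le_antisymm (fun g hg => ?_) (le_inf hS (map_subtype_le _))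
    have h2 : (P : Subgroup C) ≤ (S : Subgroup G).subgroupOf C := fun c hc => hS ⟨c, hc, rfl⟩
    have h3 := P.3 (S.2.comap_subtype (H := (S : Subgroup G)) (K := C)) h2
    exact ⟨⟨g, hg.2⟩, h3 ▸ hg.1, rfl⟩
  have hvS : v ∈ P0 := by
    refine ⟨⟨v, hv.2⟩, CfsgLib.mem_sylow_of_mem_centralizer P ⟨e, Subtype.ext hve⟩ fun c hc => Subtype.ext ?_, rfl⟩
    exact (cz_mem.mp (hA v hv c.2)).symm
  by_cases hall : (S : Subgroup G) ≤ C
  · refine Or.inl ?_
    have hSN : (S : Subgroup G) ⊓ N ≤ A := fun g hg => ⟨hg.2, hall hg.1⟩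
    have hcov : ∀ g : N, ∃ n : N, n * g * n⁻¹ ∈ A.subgroupOf N := by
      rintro ⟨a, haN⟩
      by_cases hac : a ∈ Subgroup.center G
      · exact ⟨1, by simpa [mem_subgroupOf, hAdef, haN, hC, cz_mem] using (mem_center_iff.mp hac y).symm⟩
      have hidx : ¬ s ∣ (centralizer ({a} : Set G)).index := fun hd => by
        rw [h a haN hac, ← h y hyN hyc] at hd
        exact S.not_dvd_index (hd.trans (index_dvd_of_le hall))
      obtain ⟨T, hT⟩ := CfsgLib.exists_sylow_le_of_not_dvd_index _ hidx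
      obtain ⟨g, hg⟩ := MulAction.exists_smul_eq G S T
      have hgv : g * v * g⁻¹ ∈ centralizer ({a} : Set G) := hT (by
        rw [← hg]; exact ⟨v, hS hvS, rfl⟩)
      have hga : g⁻¹ * a * g ∈ A := by
        refine ⟨by simpa using hN.conj_mem a haN g⁻¹, ?_⟩
        show g⁻¹ * a * g ∈ C
        rw [hC, cz_eq h hyN hyc hv.1 hvc (hA v hv), cz_mem]
        have h1 := cz_mem.mp hgv
        calc g⁻¹ * a * g * v = g⁻¹ * (a * (g * v * g⁻¹)) * g := by group
          _ = g⁻¹ * ((g * v * g⁻¹) * a) * g := by rw [h1]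
          _ = _ := by group
      have hg2 := Sylow.normalizer_sup_eq_top (CfsgLib.sylowInfNormal S N)
      rw [CfsgLib.coe_sylowInfNormal, subgroupOf_map_subtype] at hg2
      obtain ⟨n, hn, k, hk, hnk⟩ := mem_sup_of_normal_left.mp
        (sup_comm (normalizer _) N ▸ hg2 ▸ mem_top g : g ∈ N ⊔ normalizer (((S : Subgroup G) ⊓ N : Subgroup G) : Set G))
      have hkv : k * v * k⁻¹ ∈ A := hSN ((mem_normalizer_iff.mp hk v).mp ⟨hS hvS, hv.1⟩)
      refine ⟨⟨n, hn⟩⁻¹, ?_⟩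
      rw [mem_subgroupOf]
      show n⁻¹ * a * n⁻¹⁻¹ ∈ A
      rw [show n⁻¹ * a * n⁻¹⁻¹ = k * (g⁻¹ * a * g) * k⁻¹ by rw [← hnk]; group]
      exact (mem_normalizer_iff.mp (hnorm k hkv) _).mp hga
    have := CfsgLib.eq_top_of_conj_cover (A.subgroupOf N) hcov
    intro g hg
    have h1 : (⟨g, hg⟩ : N) ∈ A.subgroupOf N := this ▸ mem_top _
    exact (mem_subgroupOf.mp h1).2
  · refine Or.inr ?_
    haveI := S.2.isNilpotent
    have hlt : P0.subgroupOf (S : Subgroup G) < ⊤ := lt_top_iff_ne_top.mpr fun h' => hall fun g hg =>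
      (hmax.ge ((mem_subgroupOf.mp (h' ▸ mem_top (⟨g, hg⟩ : (S : Subgroup G))) : g ∈ P0))).2
    obtain ⟨⟨u, huS⟩, hu, hu'⟩ := SetLike.exists_of_lt
      (Group.normalizerCondition_of_isNilpotent (G := (S : Subgroup G)) _ hlt)
    have hu'' : u ∉ C := fun hc => hu' (mem_subgroupOf.mpr (hmax.le ⟨huS, hc⟩))
    obtain ⟨k, hk⟩ := S.2 ⟨u, huS⟩
    refine ⟨u, ⟨k, congrArg Subtype.val hk⟩, hu'', hnorm u ⟨hN.conj_mem v hv.1 u, ?_⟩⟩
    have h1 : (⟨u, huS⟩ * ⟨v, hS hvS⟩ * ⟨u, huS⟩⁻¹ : (S : Subgroup G)) ∈ P0.subgroupOf (S : Subgroup G) :=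
      (mem_normalizer_iff.mp hu ⟨v, hS hvS⟩).mp (mem_subgroupOf.mpr hvS)
    exact (hmax.ge (show u * v * u⁻¹ ∈ P0 from h1)).2

/-- The theorem. -/
theorem isNilpotent {r : ℕ} [hr : Fact r.Prime] (R : Sylow r G) (hR : ¬ (R : Subgroup G) ≤ Subgroup.center G)
    {N : Subgroup G} [hN : N.Normal] (hRN : (R : Subgroup G) ≤ N) {m : ℕ} (h : TwoSize N m) :
    Group.IsNilpotent N := by
  classical
  by_cases hall : ∀ g ∈ N, (orderOf g).Coprime r → g ∈ Subgroup.center G
  · have hp : IsPGroup r (N ⧸ Subgroup.center N) := fun g => by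
      induction g using QuotientGroup.induction_on with
      | _ g =>
        refine ⟨(orderOf g).factorization r, ?_⟩
        rw [← QuotientGroup.mk_pow, QuotientGroup.eq_one_iff, mem_center_iff]
        intro b
        refine Subtype.ext (mem_center_iff.mp (hall _ (g ^ r ^ _).2 ?_) (b : G))
        rw [Subgroup.orderOf_coe]
        refine Nat.Coprime.coprime_dvd_left (orderOf_dvd_of_pow_eq_one ?_)
          (Nat.coprime_ordCompl hr.out (orderOf_pos g).ne').symm
        rw [← pow_mul, Nat.ordProj_mul_ordCompl_eq_self, pow_orderOf_eq_one]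
    exact Group.of_quotient_center_nilpotent hp.isNilpotent
  push Not at hall
  obtain ⟨y0, hy0N, hy0r, hy0c⟩ := hall
  obtain ⟨q, hq, hqd, hqc⟩ := exists_primary hy0c
  have hqr : q ≠ r := fun e => hr.out.not_dvd_one (hy0r ▸ Nat.dvd_gcd (e ▸ hqd) dvd_rfl)
  haveI := Fact.mk hq
  set y := y0 ^ ordCompl[q] (orderOf y0) with hy
  have hyN : y ∈ N := N.pow_mem hy0N _
  have hyq : y ^ q ^ (orderOf y0).factorization q = 1 := pow_ordCompl_pow y0 q
  have hyr : (orderOf y).Coprime r := hy0r.coprime_dvd_left (orderOf_pow_dvd _)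
  set C := centralizer ({y} : Set G) with hC
  have hlarge : ∀ g : G, (∃ e : ℕ, g ^ r ^ e = 1) → g ∈ N := fun g ⟨e, he⟩ => by
    obtain ⟨T, hT⟩ := (isPGroup_zpowers he).exists_le_sylow
    obtain ⟨a, ha⟩ := MulAction.exists_smul_eq G R T
    have hg : g ∈ (T : Subgroup G) := hT (mem_zpowers g)
    rw [← ha] at hg
    obtain ⟨b, hb, rfl⟩ := hg
    exact hN.conj_mem b (hRN hb) a
  obtain ⟨x0, hx0R, hx0c⟩ := SetLike.not_le_iff_exists.mp hR
  obtain ⟨k0, hk0⟩ := R.2 ⟨x0, hx0R⟩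
  have hx0e : x0 ^ r ^ k0 = 1 := congrArg Subtype.val hk0
  -- a noncentral `r`-element commuting with `y`
  obtain ⟨x, ⟨ex, hxe⟩, hxC, hxc⟩ : ∃ x : G, (∃ e : ℕ, x ^ r ^ e = 1) ∧ x ∈ C ∧ x ∉ Subgroup.center G := by
    by_contra hno
    push Not at hno
    let P : Sylow r C := default
    set P0 := (P : Subgroup C).map C.subtype with hP0
    have hP0c : P0 ≤ Subgroup.center G := by
      rintro _ ⟨c, hc, rfl⟩
      obtain ⟨k, hk⟩ := P.2 ⟨c, hc⟩
      exact hno c ⟨k, congrArg Subtype.val (congrArg Subtype.val hk)⟩ c.2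
    haveI : P0.Normal := ⟨fun c hc g => by rw [mem_center_iff.mp (hP0c hc) g, mul_inv_cancel_right]; exact hc⟩
    have hW : IsPGroup r ((P0 ⊔ zpowers x0 : Subgroup G)) :=
      (P.isPGroup'.map C.subtype).to_sup_of_normal_left (isPGroup_zpowers hx0e)
    have hWle : P0 ⊔ zpowers x0 ≤ centralizer ({x0} : Set G) :=
      sup_le (fun c hc => cz_mem.mpr (mem_center_iff.mp (hP0c hc) x0).symm) (zpowers_le.mpr (cz_mem.mpr rfl))
    have hcard : Nat.card (centralizer ({x0} : Set G)) = Nat.card C :=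
      Nat.eq_of_mul_eq_mul_right (Nat.pos_of_ne_zero (index_ne_zero_of_finite (H := C)))
        (by conv_lhs => rw [hC, h y hyN hqc, ← h x0 (hRN hx0R) hx0c]
            rw [card_mul_index, card_mul_index])
    obtain ⟨n, hn⟩ := hW.exists_card_eq
    have hlt : Nat.card P0 < Nat.card ↥(P0 ⊔ zpowers x0) := by
      refine lt_of_le_of_ne (Nat.le_of_dvd Nat.card_pos (card_dvd_of_le le_sup_left)) fun e => hx0c (hP0c ?_)
      rw [eq_of_le_of_card_ge le_sup_left e.ge]
      exact mem_sup_right (mem_zpowers x0)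
    have h2 : r ^ n ∣ Nat.card C := hn ▸ hcard ▸ card_dvd_of_le hWle
    rw [hP0, card_map_of_injective C.subtype_injective, P.card_eq_multiplicity, hn] at hlt
    exact absurd ((hr.out.pow_dvd_iff_le_factorization Nat.card_pos.ne').mp h2)
      (not_le.mpr ((Nat.pow_lt_pow_iff_right hr.out.one_lt).mp hlt))
  have hxN := hlarge x ⟨ex, hxe⟩
  have hA : ∀ v ∈ N ⊓ C, C ≤ centralizer ({v} : Set G) := fun v hv =>
    cz_le_cz h hxN hxc ⟨ex, hxe⟩ hyN hqc hyr (cz_mem.mp hxC) hv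
  have hyA : y ∈ N ⊓ C := ⟨hyN, cz_mem.mpr rfl⟩
  set A := N ⊓ C with hAdef
  have hAcomm : ∀ a ∈ A, ∀ b ∈ A, a * b = b * a := fun a ha b hb => cz_mem.mp (hA b hb ha.2)
  haveI hAmc : IsMulCommutative A := ⟨⟨fun a b => Subtype.ext (hAcomm a a.2 b b.2)⟩⟩
  have hdone : N ≤ C → Group.IsNilpotent N := fun hle => by
    letI : CommGroup N := { (inferInstance : Group N) with
      mul_comm := fun a b => Subtype.ext (hAcomm a ⟨a.2, hle a.2⟩ b ⟨b.2, hle b.2⟩) }
    infer_instance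
  rcases exists_normalizing h hyN hqc hA (s := q) hyA hqc hyq with hle | ⟨uq, ⟨eq', huqe⟩, huqC, huqN⟩
  · exact hdone hle
  rcases exists_normalizing h hyN hqc hA (s := r) ⟨hxN, hxC⟩ hxc hxe with hle | ⟨ur, ⟨er, hure⟩, hurC, hurN⟩
  · exact hdone hle
  refine (?_ : False).elim
  open scoped IsMulCommutative in
  let φ0 : normalizer (A : Set G) →* MulAut A := A.normalizerMonoidHom
  let Y := φ0.range
  let Z : Subgroup A := (Subgroup.center G).subgroupOf A
  have hZ : ∀ w : Y, ∀ z ∈ Z, (Y.subtype w) z = z := by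
    rintro ⟨_, g, rfl⟩ z hz
    refine Subtype.ext ?_
    show (g : G) * z * (g : G)⁻¹ = z
    have hz' : (z : G) ∈ Subgroup.center G := hz
    rw [mem_center_iff.mp hz', mul_inv_cancel_right]
  have hfree : ∀ w : Y, w ≠ 1 → ∀ a : A, (Y.subtype w) a = a → a ∈ Z := by
    rintro ⟨_, g, rfl⟩ hw a ha
    by_contra haZ
    refine hw (Subtype.ext (MulEquiv.ext fun b => Subtype.ext ?_))
    have h1 : (g : G) * a * (g : G)⁻¹ = a := congrArg Subtype.val ha
    have h2 : (g : G) ∈ C := by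
      rw [hC, cz_eq h hyN hqc a.2.1 haZ (hA a a.2), cz_mem]
      exact mul_inv_eq_iff_eq_mul.mp h1
    show (g : G) * b * (g : G)⁻¹ = b
    rw [cz_mem.mp (hA b b.2 h2), mul_inv_cancel_right]
  have hdiv : ∀ {s : ℕ} {u : G}, s.Prime → ∀ hu : u ∈ normalizer (A : Set G), ∀ e : ℕ, u ^ s ^ e = 1 → u ∉ C →
      s ∣ Nat.card Y := fun {s u} hs hu e he huC => by
    set w : Y := ⟨φ0 ⟨u, hu⟩, ⟨_, rfl⟩⟩ with hw
    have hw1 : w ≠ 1 := fun h' => huC (by
      have h2 : φ0 ⟨u, hu⟩ ⟨y, hyA⟩ = ⟨y, hyA⟩ := by rw [show φ0 ⟨u, hu⟩ = 1 from congrArg Subtype.val h']; rfl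
      exact cz_mem.mpr (mul_inv_eq_iff_eq_mul.mp (congrArg Subtype.val h2)))
    have hwe : w ^ s ^ e = 1 := Subtype.ext (by
      show (φ0 ⟨u, hu⟩) ^ s ^ e = 1
      rw [← map_pow, show (⟨u, hu⟩ : normalizer (A : Set G)) ^ s ^ e = 1 from Subtype.ext he, map_one])
    obtain ⟨k, -, hk⟩ := (Nat.dvd_prime_pow hs).mp (orderOf_dvd_of_pow_eq_one hwe)
    have hk0 : k ≠ 0 := fun h0 => hw1 (orderOf_eq_one_iff.mp (by rw [hk, h0, pow_zero]))
    exact (dvd_pow_self s hk0).trans (hk ▸ orderOf_dvd_natCard w)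
  open scoped IsMulCommutative in
  exact no_two_primes (φ := Y.subtype) (Z := Z) hZ hfree hq hr.out hqr
    ⟨⟨y, hyA⟩, hqc, _, Subtype.ext hyq⟩ ⟨⟨x, ⟨hxN, hxC⟩⟩, hxc, ex, Subtype.ext hxe⟩
    (hdiv hq huqN _ huqe huqC) (hdiv hr.out hurN _ hure hurC)

end CfsgLib.TwoSizeNormal
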